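import Groth.Agent.L20.IntCover.Subtr
import Groth.Agent.S7382
import Mathlib.AlgebraicGeometry.AffineTransitionLimit
import Mathlib.AlgebraicGeometry.Limits
import Mathlib.AlgebraicGeometry.Morphisms.Finite
import Mathlib.AlgebraicGeometry.Morphisms.QuasiSeparated

/-!
# Refining local sections over an integral cover by an open cover of a finite cover
-/

set_option linter.style.haveILetI false
set_option backward.isDefEq.respectTransparency.types false

universe u

open AlgebraicGeometry CategoryTheory Limits TopologicalSpace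

noncomputable section

namespace Groth.L20.QfRefine

/-- The disjoint union of finitely many opens mapping to the scheme is a local isomorphism. -/
theorem exists_nhd_isOpenImmersion {J : Type u} {Y : Scheme.{u}} (V : J → Y.Opens)
    (x : ↥(∐ fun k => (V k : Scheme.{u}))) :
    ∃ U : (∐ fun k => (V k : Scheme.{u})).Opens, x ∈ U ∧
      IsOpenImmersion (U.ι ≫ Sigma.desc fun k => (V k).ι) := by
  obtain ⟨k, y, rfl⟩ := Scheme.IsLocallyDirected.ι_jointly_surjective _ x
  let ιk : (V k.as : Scheme.{u}) ⟶ ∐ fun k => (V k : Scheme.{u}) :=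
    Sigma.ι (fun k => (V k : Scheme.{u})) k.as
  refine ⟨ιk.opensRange, ⟨y, rfl⟩, ?_⟩
  have h : ιk.opensRange.ι ≫ (Sigma.desc fun k => (V k).ι) =
      ιk.isoOpensRange.inv ≫ (V k.as).ι := by
    rw [← cancel_epi ιk.isoOpensRange.hom, Scheme.Hom.isoOpensRange_hom_ι_assoc,
      Iso.hom_inv_id_assoc, Sigma.ι_desc]
  rw [h]
  infer_instance

theorem surjective_sigmaDesc {J : Type u} {Y : Scheme.{u}} {V : J → Y.Opens}
    (hV : IsOpenCover V) : Surjective (Sigma.desc fun k => (V k).ι) := ⟨fun y => by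
  obtain ⟨k, hk⟩ := hV.exists_mem y
  refine ⟨Sigma.ι (fun k => (V k : Scheme.{u})) k ⟨y, hk⟩, ?_⟩
  rw [← Scheme.Hom.comp_apply, Sigma.ι_desc]
  rfl⟩

/-- Local sections of an fp morphism over an integral surjective cover refine to an open cover of a
finite fp surjective cover. -/
theorem exists_refinement {X Y : Scheme.{u}} (f : X ⟶ Y) [LocallyOfFinitePresentation f]
    [CompactSpace Y] [QuasiSeparatedSpace Y] {T : Scheme.{u}} (π : T ⟶ Y) [IsIntegralHom π]
    [Surjective π]
    (hsec : ∀ t : T, ∃ (V : T.Opens) (r : ↑V ⟶ X), t ∈ V ∧ r ≫ f = V.ι ≫ π) :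
    ∃ (X' Y' : Scheme.{u}) (h : X' ⟶ X) (p : X' ⟶ Y') (q : Y' ⟶ Y), h ≫ f = p ≫ q ∧
      Surjective p ∧ QuasiCompact p ∧ QuasiSeparated p ∧
      (∀ x : X', ∃ U : X'.Opens, x ∈ U ∧ IsOpenImmersion (U.ι ≫ p)) ∧
      IsFinite q ∧ Surjective q ∧ LocallyOfFinitePresentation q := by
  classical
  choose V r htV hr using hsec
  choose W hW htW hWV using fun t : T => show ∃ W : T.Opens, IsAffineOpen W ∧ t ∈ W ∧ W ≤ V t by
    obtain ⟨_, ⟨W, hW, rfl⟩, htW, hWV⟩ :=
      T.isBasis_affineOpens.exists_subset_of_mem_open (htV t) (V t).2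
    exact ⟨W, hW, htW, hWV⟩
  haveI : CompactSpace T := QuasiCompact.compactSpace_of_compactSpace π
  obtain ⟨s, hs⟩ := isCompact_univ.elim_finite_subcover (fun t : T => (W t : Set T))
    (fun t => (W t).2) (fun t _ => Set.mem_iUnion.mpr ⟨t, htW t⟩)
  obtain ⟨I, _, _, _, D, c, hc, hD, ⟨e⟩⟩ := Groth.Agent.S7382.result π
  let D' : Iᵒᵖ ⥤ Scheme.{u} := D ⋙ Over.forget Y
  let c' : Cone D' := (Over.forget Y).mapCone c
  have hc' : IsLimit c' := isLimitOfPreserves (Over.forget Y) hc
  haveI : ∀ {i j} (g : i ⟶ j), IsAffineHom (D'.map g) := fun {i j} g => by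
    haveI := (hD i).1
    haveI := (hD j).1
    haveI : IsAffineHom ((D.map g).left ≫ (D.obj j).hom) := by rw [Over.w]; infer_instance
    exact IsAffineHom.of_comp (D.map g).left (D.obj j).hom
  haveI : ∀ i, CompactSpace (D'.obj i) := fun i => by
    let q : D'.obj i ⟶ Y := (D.obj i).hom
    haveI : IsFinite q := (hD i).1
    exact QuasiCompact.compactSpace_of_compactSpace q
  haveI : ∀ i, QuasiSeparatedSpace (D'.obj i) := fun i => by
    let q : D'.obj i ⟶ Y := (D.obj i).hom
    haveI : IsFinite q := (hD i).1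
    exact quasiSeparatedSpace_of_quasiSeparated q
  let a : c'.pt ⟶ T := e.hom.left
  have haπ : a ≫ π = c.pt.hom := Over.w e.hom
  haveI : IsIso a := (inferInstance : IsIso ((Over.forget Y).map e.hom))
  let U : s → c'.pt.Opens := fun t => a ⁻¹ᵁ W t
  have hU : IsOpenCover U := top_le_iff.mp fun x _ => by
    obtain ⟨t, ht, hxt⟩ := Set.mem_iUnion₂.mp (hs (Set.mem_univ (a x)))
    exact Opens.mem_iSup.mpr ⟨⟨t, ht⟩, hxt⟩
  obtain ⟨i₀, O, hO, hO'⟩ := Scheme.exists_isOpenCover_and_isAffine_of_finite D' c' hc' U hU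
    (fun t => (hW t).preimage a)
  have hle : ∀ t : s, c'.π.app i₀ ⁻¹ᵁ O t ≤ a ⁻¹ᵁ V t := fun t =>
    (hO' t).2.symm.trans_le (a.preimage_mono (hWV t))
  have key : ∀ t : s, ∃ (j : Over i₀) (g : ↑(D'.map j.hom ⁻¹ᵁ O t) ⟶ X),
      g ≫ f = (D'.map j.hom ⁻¹ᵁ O t).ι ≫ (D.obj j.left).hom := fun t => by
    haveI : ∀ j : Over i₀, IsAffine ((opensDiagram D' i₀ (O t)).obj j) := fun j =>
      (hO' t).1.preimage _
    haveI : ∀ j : Over i₀, CompactSpace ((opensDiagram D' i₀ (O t)).obj j) := fun j => inferInstance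
    haveI : ∀ j : Over i₀, QuasiSeparatedSpace ((opensDiagram D' i₀ (O t)).obj j) := fun j =>
      inferInstance
    let τ : opensDiagram D' i₀ (O t) ⟶ (Functor.const _).obj Y :=
      { app := fun j => (D'.map j.hom ⁻¹ᵁ O t).ι ≫ (D.obj j.left).hom
        naturality := fun j k g => by
          rw [Functor.const_obj_map]
          refine Eq.trans ?_ (Category.comp_id _).symm
          show (D'.map g.left).resLE _ _ _ ≫ _ ≫ _ = _
          rw [Scheme.Hom.resLE_comp_ι_assoc]
          congr 1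
          exact Over.w (D.map g.left) }
    obtain ⟨j, g, -, hg⟩ := Scheme.exists_π_app_comp_eq_of_locallyOfFinitePresentation
      (opensDiagram D' i₀ (O t)) τ f (opensCone D' c' i₀ (O t)) (isLimitOpensCone D' c' hc' i₀ (O t))
      (a.resLE (V t) _ (hle t) ≫ r t) (by
        ext j
        show (c'.π.app j.left).resLE _ _ _ ≫ (D'.map j.hom ⁻¹ᵁ O t).ι ≫ (D.obj j.left).hom =
          (a.resLE (V t) _ (hle t) ≫ r t) ≫ f
        rw [Category.assoc, hr, Scheme.Hom.resLE_comp_ι_assoc, Scheme.Hom.resLE_comp_ι_assoc, haπ]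
        congr 1
        exact Over.w (c.π.app j.left))
    exact ⟨j, g, hg⟩
  choose j g hg using key
  obtain ⟨k, fk, fj, hfj⟩ := IsCofiltered.wideCospan fun t : s => (j t).hom
  let V' : s → (D'.obj k).Opens := fun t => D'.map fk ⁻¹ᵁ O t
  have hV' : IsOpenCover V' := hO.comap (D'.map fk).base.hom
  haveI : ∀ t, IsAffine (V' t : Scheme.{u}) := fun t => (hO' t).1.preimage _
  have hle' : ∀ t, V' t ≤ D'.map (fj t) ⁻¹ᵁ (D'.map (j t).hom ⁻¹ᵁ O t) := fun t => by
    rw [← Scheme.Hom.comp_preimage, ← D'.map_comp, hfj]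
  refine ⟨∐ fun t => (V' t : Scheme.{u}), D'.obj k,
    Sigma.desc fun t => (D'.map (fj t)).resLE _ _ (hle' t) ≫ g t,
    Sigma.desc fun t => (V' t).ι, (D.obj k).hom, ?_, surjective_sigmaDesc hV', inferInstance,
    inferInstance, exists_nhd_isOpenImmersion V', (hD k).1, ?_, (hD k).2⟩
  · refine Sigma.hom_ext _ _ fun t => ?_
    rw [Sigma.ι_desc_assoc, Sigma.ι_desc_assoc, Category.assoc, hg,
      Scheme.Hom.resLE_comp_ι_assoc]
    congr 1
    exact Over.w (D.map (fj t))
  · haveI : Surjective ((c.π.app k).left ≫ (D.obj k).hom) := by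
      rw [show (c.π.app k).left ≫ (D.obj k).hom = a ≫ π from (Over.w (c.π.app k)).trans haπ.symm]
      haveI : Surjective a := ⟨(asIso a).hom.homeomorph.surjective⟩
      exact ⟨π.surjective.comp a.surjective⟩
    exact Surjective.of_comp (c.π.app k).left (D.obj k).hom

end Groth.L20.QfRefine
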