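import Groth.Agent.L20.QfRefine.Basic

/-!
# fppf covers are dominated by finite surjective morphisms
-/

set_option linter.style.haveILetI false
set_option backward.isDefEq.respectTransparency.types false

universe u

open AlgebraicGeometry CategoryTheory Limits

noncomputable section

namespace Groth.L20.QfRefine

theorem exists_finite_dominating {U S : Scheme.{u}} (g : U ⟶ S) [Flat g]
    [LocallyOfFinitePresentation g] [Surjective g] [CompactSpace S] [QuasiSeparatedSpace S] :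
    ∃ (S' : Scheme.{u}) (π : S' ⟶ S), Surjective π ∧ IsFinite π ∧ LocallyOfFinitePresentation π ∧
      ∀ y : S', ∃ (V : S'.Opens) (h : ↑V ⟶ U), y ∈ V ∧ h ≫ g = V.ι ≫ π := by
  obtain ⟨X', Y', h, p, q, hpq, hp, -, -, hloc, hq, hqs, hqfp⟩ :=
    exists_refinement g (IntCover.π S) (IntCover.exists_section g)
  refine ⟨Y', q, hqs, hq, hqfp, fun y => ?_⟩
  obtain ⟨x, rfl⟩ := p.surjective y
  obtain ⟨W, hxW, hW⟩ := hloc x
  let j := W.ι ≫ p
  refine ⟨j.opensRange, j.isoOpensRange.inv ≫ W.ι ≫ h, ⟨⟨x, hxW⟩, rfl⟩, ?_⟩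
  rw [← cancel_epi j.isoOpensRange.hom]
  simp only [Category.assoc, Iso.hom_inv_id_assoc, hpq, Scheme.Hom.isoOpensRange_hom_ι_assoc, j]

/-- A local section into a coproduct lands locally in one summand. -/
theorem exists_component {J : Type u} {P : J → Scheme.{u}} {S Y : Scheme.{u}} (φ : ∀ k, P k ⟶ S)
    (π : Y ⟶ S) {V : Y.Opens} (h : ↑V ⟶ ∐ P) (hh : h ≫ Sigma.desc φ = V.ι ≫ π) {y : Y}
    (hy : y ∈ V) :
    ∃ (W : Y.Opens) (k : J) (r : ↑W ⟶ P k), IsAffineOpen W ∧ y ∈ W ∧ r ≫ φ k = W.ι ≫ π := by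
  obtain ⟨k, z, hz⟩ := Scheme.IsLocallyDirected.ι_jointly_surjective _ (h ⟨y, hy⟩)
  let ιk : P k.as ⟶ ∐ P := Sigma.ι P k.as
  let V' : Y.Opens := V.ι ''ᵁ (h ⁻¹ᵁ ιk.opensRange)
  have hy' : y ∈ V' := ⟨⟨y, hy⟩, ⟨z, hz⟩, rfl⟩
  obtain ⟨_, ⟨W, hW, rfl⟩, hyW, hWV'⟩ :=
    Y.isBasis_affineOpens.exists_subset_of_mem_open hy' V'.2
  have hWV : W ≤ V := fun w hw => by
    obtain ⟨v, -, hv⟩ := hWV' hw
    exact hv ▸ v.2
  have hrange : Set.range (Y.homOfLE hWV ≫ h) ⊆ Set.range ιk := by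
    rintro _ ⟨w, rfl⟩
    obtain ⟨v, hv, hvw⟩ := hWV' w.2
    have : Y.homOfLE hWV w = v := Subtype.ext (by
      rw [show v.1 = w.1 from hvw]
      simp)
    rw [Scheme.Hom.comp_apply, this]
    exact hv
  refine ⟨W, k.as, IsOpenImmersion.lift ιk (Y.homOfLE hWV ≫ h) hrange, hW, hyW, ?_⟩
  rw [show φ k.as = ιk ≫ Sigma.desc φ from (Sigma.ι_desc φ k.as).symm, ← Category.assoc,
    IsOpenImmersion.lift_fac, Category.assoc, hh, Scheme.homOfLE_ι_assoc]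

end Groth.L20.QfRefine
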